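import Cfsg.Agent.H801.Reduct2
import Cfsg.Agent.S0659
set_option linter.all false

-- part: H801/Reduct3
section
/-!
# The reduction theorem: non-inner systems contain constrained non-inner systems (helper801)
-/

set_option autoImplicit false

namespace Cfsg.Agent.H801

open Cfsg Cfsg.FusionSystem Cfsg.Agent.H802

universe u

/-- The set of graphs of the maps of a fusion system. -/
def graphs {Ω : Type u} [Group Ω] {S : Subgroup Ω} (F : FusionSystem S) : Set (Set (S × S)) :=
  {X | ∃ (P : Subgroup Ω) (φ : P →* Ω), φ ∈ F.Hom P ∧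
    X = {z : S × S | ∃ h : (z.1 : Ω) ∈ P, φ ⟨z.1, h⟩ = z.2}}

theorem graphs_mono {Ω : Type u} [Group Ω] {S : Subgroup Ω} {F F' : FusionSystem S} (h : F ≤ F') :
    graphs F ⊆ graphs F' := by
  rintro _ ⟨P, φ, hφ, rfl⟩
  exact ⟨P, φ, h P hφ, rfl⟩

theorem hom_subset_of_graphs {Ω : Type u} [Group Ω] {S : Subgroup Ω} {F F' : FusionSystem S}
    (h : graphs F ⊆ graphs F') (P : Subgroup Ω) : F.Hom P ⊆ F'.Hom P := by
  intro φ hφ
  obtain ⟨P', φ', hφ', heq⟩ := h ⟨P, φ, hφ, rfl⟩
  have hPS := hom_le hφ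
  have hP'S := hom_le hφ'
  have h1 : ∀ (x y : S), (∃ h : (x : Ω) ∈ P, φ ⟨x, h⟩ = y) ↔ ∃ h : (x : Ω) ∈ P', φ' ⟨x, h⟩ = y := by
    intro x y
    have := Set.ext_iff.1 heq (x, y)
    exact this
  have hPP : P' = P := by
    ext x
    constructor
    · intro hx
      obtain ⟨h2, -⟩ := (h1 ⟨x, hP'S hx⟩ ⟨φ' ⟨x, hx⟩, hom_apply_mem hφ' _⟩).2 ⟨hx, rfl⟩
      exact h2
    · intro hx
      obtain ⟨h2, -⟩ := (h1 ⟨x, hPS hx⟩ ⟨φ ⟨x, hx⟩, hom_apply_mem hφ _⟩).1 ⟨hx, rfl⟩
      exact h2
  subst hPP
  refine mem_of_apply_eq hφ' fun x => ?_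
  obtain ⟨h2, h3⟩ := (h1 ⟨x, hPS x.2⟩ ⟨φ x, hom_apply_mem hφ _⟩).1 ⟨x.2, rfl⟩
  exact h3.symm

/-- Existence of minimal subsystems over the same group. -/
theorem exists_minimal_system {Ω : Type u} [Group Ω] {S : Subgroup Ω} [Finite S]
    (Pr : FusionSystem S → Prop) {F : FusionSystem S} (hF : Pr F) :
    ∃ E : FusionSystem S, Pr E ∧ E ≤ F ∧
      ∀ E' : FusionSystem S, Pr E' → E' ≤ E → ∀ P, E'.Hom P = E.Hom P := by
  classical
  have hfin : (graphs '' {E : FusionSystem S | Pr E ∧ E ≤ F}).Finite := Set.toFinite _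
  obtain ⟨m, ⟨⟨E, ⟨hE1, hE2⟩, rfl⟩, hm⟩⟩ := hfin.exists_minimal
    ⟨_, F, ⟨hF, fun P => Set.Subset.rfl⟩, rfl⟩
  refine ⟨E, hE1, hE2, fun E' hE' hle P => ?_⟩
  have h1 := hm (y := graphs E') ⟨E', ⟨hE', fun P => (hle P).trans (hE2 P)⟩, rfl⟩ (graphs_mono hle)
  exact Set.Subset.antisymm (hle P) (hom_subset_of_graphs h1 P)

/-- **The reduction theorem**, general form. `Cl` is a class of fusion systems over subgroups of `Ω` closed under
subsystems, and `W` a choice of characteristic subgroups which controls `p`-nilpotency in the quotients by normal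
`p`-subgroups of the models of the constrained members of the class. Then every non-inner saturated member of the class
contains a constrained non-inner one over the same group. -/
theorem exists_constrained {p : ℕ} [Fact p.Prime] {Ω : Type u} [Group Ω] (W : WFun.{u} p)
    (Cl : ∀ T : Subgroup Ω, FusionSystem T → Prop)
    (hCl : ∀ (T T' : Subgroup Ω) (E : FusionSystem T) (E' : FusionSystem T'), Cl T E → T' ≤ T →
      E'.IsSaturated p → E'.IsSubsystemOf E → Cl T' E')
    (hW : ∀ (T : Subgroup Ω) (E : FusionSystem T), Cl T E → E.IsConstrained p →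
      ∀ (L : Type u) [Group L] (ι : T →* L), E.IsModel p L ι → ∀ (N : Subgroup L) [N.Normal],
      IsPGroup p N → ∀ R : Sylow p (L ⧸ N), HasNormalPComplement p
        (Subgroup.normalizer (W.obj (L ⧸ N) (R : Subgroup (L ⧸ N)) : Set (L ⧸ N))) →
      HasNormalPComplement p (L ⧸ N)) (n : ℕ) :
    ∀ (S : Subgroup Ω) [Finite S], Nat.card S = n → IsPGroup p S → ∀ F : FusionSystem S,
      F.IsSaturated p → Cl S F → (¬ ∀ P : Subgroup Ω, F.Hom P = (innerFusionSystem S).Hom P) →
      ∃ E : FusionSystem S, E ≤ F ∧ E.IsConstrained p ∧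
        ¬ ∀ P : Subgroup Ω, E.Hom P = (innerFusionSystem S).Hom P := by
  induction n using Nat.strong_induction_on with
  | _ n ih =>
    intro S _ hcard hS F₀ hF₀ hClF₀ hnon₀
    obtain ⟨F, ⟨hF, hnon⟩, hle, hmin⟩ := exists_minimal_system
      (fun E : FusionSystem S => E.IsSaturated p ∧
        ¬ ∀ P : Subgroup Ω, E.Hom P = (innerFusionSystem S).Hom P) ⟨hF₀, hnon₀⟩
    have hClF : Cl S F := hCl S S F₀ F hClF₀ le_rfl hF (fun P => hle P)
    refine ⟨F, hle, ?_, hnon⟩
    obtain ⟨Z, hZ, hZmax⟩ := exists_max_hypZ (p := p) F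
    have hmin' : ∀ E : FusionSystem S, E.IsSaturated p → E ≤ F →
        (¬ ∀ P : Subgroup Ω, E.Hom P = (innerFusionSystem S).Hom P) → ∀ P, E.Hom P = F.Hom P :=
      fun E h1 h2 h3 => hmin E ⟨h1, h3⟩ h2
    obtain ⟨Q, hQn, hZQ, hNI, hNS⟩ := exists_normal_NI W hS hF hZ hnon (by
      intro T E hTS hZT hE hEF hEn
      have hfT : Finite T := finite_of_le hTS.le
      have hTp := isPGroup_of_le hS hTS.le
      have hcT : Nat.card T < n := by
        rw [← hcard]
        by_contra hcon
        exact hTS.ne (Subgroup.eq_of_le_of_card_ge hTS.le (not_lt.1 hcon))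
      have hClE := hCl S T F E hClF hTS.le hE hEF
      obtain ⟨E₁, hE₁E, hE₁c, hE₁n⟩ := ih _ hcT T rfl hTp E hE hClE hEn
      have hE₁F : E₁.IsSubsystemOf F := fun P => (hE₁E P).trans (hEF P)
      have hClE₁ := hCl T T E E₁ hClE le_rfl hE₁c.1 (fun P => hE₁E P)
      obtain ⟨h1, R, h2, h3, α, hα, h4, h5, h6⟩ := local_step W hS hF hZ hTS.le hZT hE₁c hE₁F hE₁n
        (hW T E₁ hClE₁ hE₁c)
      exact ⟨h1, R, h2, h3, α, autGroup_le_of_isSubsystemOf hE₁F R hα, h4, h5, h6⟩)
    obtain ⟨E, hE⟩ := exists_normalizerSystem F hQn.1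
    have hEs := normalizerSystem_isSaturated hS hF hQn hE
    have hEn := hNI.not_inner hS hE
    have hEF := normalizerSystem_isSubsystemOf hE
    have hQnorm : F.IsNormal Q := by
      refine ⟨hQn.1, fun P φ hφ => ?_⟩
      have h1 := hmin' (castSystem hNS E) (isSaturated_cast hNS hEs) (fun P => by
        rw [castSystem_hom]; exact hEF P) (by
        intro hcon
        apply hEn
        intro P
        rw [← castSystem_hom hNS E P, hcon P, hNS]) P
      rw [← h1, castSystem_hom, hE P] at hφ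
      exact hφ.2.2.2
    exact isConstrained_of_minimal hS hF hmin' hZ hZmax hQnorm hZQ

end Cfsg.Agent.H801
end

-- part: H801/ReductOdd
section
/-!
# The reduction theorem for odd primes (helper801)

For odd `p` every non-inner saturated fusion system over a finite `p`-group `S` contains a constrained non-inner
saturated fusion system over `S`.
-/

set_option autoImplicit false

namespace Cfsg.Agent.H801

open Cfsg Cfsg.FusionSystem Cfsg.Agent.H802

universe u

/-- The functor `P ↦ Z(J(P))`, `J(P)` generated by the abelian subgroups of largest order. -/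
def zjFun (p : ℕ) [Fact p.Prime] : WFun.{u} p where
  obj := fun G _ P => centerThompsonAOf P
  map_eq := by
    intro G G' _ _ _ _ f P hf _
    exact S0659.map_centerThompsonAOf_of_injOn f P hf
  le := by
    intro G _ _ P _
    exact PLocal.ThompsonJA.centerThompsonAOf_le P
  ne_bot := by
    intro G _ _ P hP hP1
    exact PLocal.ThompsonJA.centerThompsonAOf_ne_bot P hP hP1

/-- **The reduction theorem for odd `p`** (S5332). -/
theorem exists_constrained_odd {p : ℕ} [Fact p.Prime] (hp : p ≠ 2) {Ω : Type u} [Group Ω]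
    {S : Subgroup Ω} [Finite S] (hS : IsPGroup p S) {F : FusionSystem S} (hF : F.IsSaturated p)
    (hnon : ¬ ∀ P : Subgroup Ω, F.Hom P = (innerFusionSystem S).Hom P) :
    ∃ E : FusionSystem S, E ≤ F ∧ E.IsConstrained p ∧
        ¬ ∀ P : Subgroup Ω, E.Hom P = (innerFusionSystem S).Hom P := by
  refine exists_constrained (zjFun p) (fun _ _ => True) (fun _ _ _ _ _ _ _ _ => trivial) ?_
    (Nat.card S) S rfl hS F hF trivial hnon
  intro T E _ _ L _ ι hM N _ _ R hR
  have hLfin : Finite L := hM.1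
  exact S0659.result hp R hR

end Cfsg.Agent.H801
end
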